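import Cfsg.Agent.SylowFix64.Main

/-!
# The number of orbits of a Sylow subgroup in a transitive group (helper64)
-/

set_option autoImplicit false

open scoped Pointwise

namespace Cfsg.Agent.SylowFix64

variable {G : Type*} [Group G] [Finite G] {p : ℕ} [Fact p.Prime]
  {Ω : Type*} [MulAction G Ω] [Finite Ω]

/-- The subgroup generated by all `p`-elements. -/
def pGen (p : ℕ) (G : Type*) [Group G] : Subgroup G := Subgroup.closure {x | PEl p x}

omit [Finite G] [Fact p.Prime] in
theorem sylow_le_pGen (T : Sylow p G) : (T : Subgroup G) ≤ pGen p G :=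
  fun _ hx => Subgroup.subset_closure (pEl_of_mem_sylow hx)

omit [Fact p.Prime] in
theorem flat_pGen : Flat p (pGen p G) := by
  refine ⟨fun M hM => (Subgroup.closure_le M).mpr fun x hx => hM x (Subgroup.subset_closure hx) hx,
    Classical.arbitrary _, sylow_le_pGen _⟩

omit [Finite G] [Fact p.Prime] in
theorem pGen_conj {x : G} (hx : x ∈ pGen p G) (g : G) : g * x * g⁻¹ ∈ pGen p G := by
  have h : pGen p G ≤ (pGen p G).comap (MulAut.conj g).toMonoidHom :=
    (Subgroup.closure_le _).mpr fun y hy => Subgroup.subset_closure (pEl_conj hy)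
  exact h hx

theorem pGen_moves [FaithfulSMul G Ω] (htrans : MulAction.IsPretransitive G Ω)
    (hpG : p ∣ Nat.card G) (α : Ω) : ∃ k ∈ pGen p G, k • α ≠ α := by
  by_contra h
  push Not at h
  obtain ⟨x, hx⟩ := exists_prime_orderOf_dvd_card' p hpG
  have hxE : PEl p x := ⟨1, by rw [pow_one, ← hx, pow_orderOf_eq_one]⟩
  have hx1 : x = 1 := by
    refine eq_of_smul_eq_smul fun β : Ω => ?_
    obtain ⟨g, rfl⟩ := htrans.exists_smul_eq α β
    have h1 := h (g⁻¹ * x * g⁻¹⁻¹) (pGen_conj (Subgroup.subset_closure hxE) g⁻¹)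
    rw [inv_inv, mul_smul, mul_smul, inv_smul_eq_iff] at h1
    rw [h1, one_smul]
  rw [hx1, orderOf_one] at hx
  exact (Fact.out : p.Prime).one_lt.ne hx

/-- A Sylow `p`-subgroup of a transitive group fixes at most `(p-1)/(2p-1)` of the points. -/
theorem fix_bound [FaithfulSMul G Ω] (htrans : MulAction.IsPretransitive G Ω)
    (hpG : p ∣ Nat.card G) (P : Sylow p G) : 0 ≤ dfc P (Set.univ : Set Ω) :=
  union_bound (K := pGen p G) (fun _ _ _ _ => Set.mem_univ _) fun α _ =>
    orbit_bound (bd_all ((orb (pGen p G) α).ncard + 1)) flat_pGen (Nat.lt_succ_self _)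
      (pGen_moves htrans hpG α) (sylow_le_pGen P)

theorem orbit_count_bound [FaithfulSMul G Ω] (htrans : MulAction.IsPretransitive G Ω)
    (hpG : p ∣ Nat.card G) (P : Sylow p G) :
    (2 * p - 1) * Nat.card (MulAction.orbitRel.Quotient ↥(P : Subgroup G) Ω) ≤ p * Nat.card Ω := by
  classical
  haveI : Fintype Ω := Fintype.ofFinite Ω
  haveI : Fintype (MulAction.orbitRel.Quotient ↥(P : Subgroup G) Ω) := Fintype.ofFinite _
  set Q := MulAction.orbitRel.Quotient ↥(P : Subgroup G) Ω
  let size : Q → ℕ := fun q => Nat.card (MulAction.orbit ↥(P : Subgroup G) q.out)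
  let fixd : Finset Q := Finset.univ.filter fun q => size q = 1
  have hsum : Nat.card Ω = ∑ q : Q, size q := by
    rw [Nat.card_congr (MulAction.selfEquivSigmaOrbits ↥(P : Subgroup G) Ω), Nat.card_sigma]
  have hfix : fixd.card ≤ (fx P (Set.univ : Set Ω)).ncard := by
    rw [← Set.ncard_coe_finset]
    refine Set.ncard_le_ncard_of_injOn (fun q : Q => q.out) ?_ (fun a _ b _ h => Quotient.out_inj.mp h)
      (Set.toFinite _)
    intro q hq
    simp only [fixd, Finset.coe_filter, Set.mem_ofPred_eq, Finset.mem_univ, true_and] at hq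
    refine ⟨Set.mem_univ _, fun t ht => ?_⟩
    haveI := (Nat.card_eq_one_iff_unique.mp hq).1
    exact congrArg Subtype.val (Subsingleton.elim
      (⟨_, MulAction.mem_orbit q.out (⟨t, ht⟩ : ↥(P : Subgroup G))⟩ :
        MulAction.orbit ↥(P : Subgroup G) q.out) ⟨q.out, MulAction.mem_orbit_self _⟩)
  have hq : ∀ q : Q, p ≤ size q + (p - 1) * (if size q = 1 then 1 else 0) := by
    intro q
    haveI : Nonempty (MulAction.orbit ↥(P : Subgroup G) q.out) :=
      ⟨⟨q.out, MulAction.mem_orbit_self _⟩⟩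
    have hpos : 0 < size q := Nat.card_pos
    obtain ⟨k, hk⟩ := P.isPGroup'.card_orbit q.out
    have hk' : size q = p ^ k := hk
    rcases Nat.eq_zero_or_pos k with rfl | hk0
    · rw [pow_zero] at hk'
      rw [if_pos hk']
      omega
    · have hple : p ≤ size q := hk' ▸ Nat.le_self_pow hk0.ne' p
      omega
  have h1 := Finset.sum_le_sum (s := Finset.univ) fun q (_ : q ∈ Finset.univ) => hq q
  rw [Finset.sum_const, Finset.sum_add_distrib, ← hsum, ← Finset.mul_sum, Finset.sum_boole,
    Finset.card_univ, smul_eq_mul, ← Nat.card_eq_fintype_card, Nat.cast_id] at h1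
  have h2 : Nat.card Q * p ≤ Nat.card Ω + (p - 1) * (fx P (Set.univ : Set Ω)).ncard :=
    h1.trans (Nat.add_le_add_left (Nat.mul_le_mul_left _ hfix) _)
  have hf := fix_bound htrans hpG P
  simp only [dfc, Set.ncard_univ] at hf
  have hp := (Fact.out : p.Prime).two_le
  zify [show 1 ≤ p by omega, show 1 ≤ 2 * p by omega] at h2 ⊢
  have hp' : (2 : ℤ) ≤ (p : ℤ) := by exact_mod_cast hp
  refine le_of_mul_le_mul_left ?_ (by linarith : (0 : ℤ) < p)
  nlinarith [mul_le_mul_of_nonneg_left h2 (by linarith : (0 : ℤ) ≤ 2 * (p : ℤ) - 1),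
    mul_nonneg hf (by linarith : (0 : ℤ) ≤ (p : ℤ) - 1)]

end Cfsg.Agent.SylowFix64
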