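import Mathlib

/-!
# Fixed points of Sylow subgroups (helper64): flats

A *flat* is a subgroup that is generated by its elements of `p`-power order and contains a Sylow
`p`-subgroup of the whole group.  For a point `α` and a flat `K`, the subgroup `pStab p K α`
generated by the `p`-elements of `K` fixing `α` is again a flat as soon as some Sylow subgroup
in `K` fixes `α`.
-/

set_option autoImplicit false

open scoped Pointwise

namespace Cfsg.Agent.SylowFix64

/-- `x` has `p`-power order. -/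
def PEl {G : Type*} [Group G] (p : ℕ) (x : G) : Prop := ∃ a : ℕ, x ^ p ^ a = 1

/-- The subgroups of `G` as a `G`-set under conjugation. -/
@[ext] structure Sub (G : Type*) [Group G] where
  /-- The underlying subgroup. -/
  grp : Subgroup G

namespace Sub

variable {G : Type*} [Group G]

instance : SMul G (Sub G) :=
  ⟨fun g J => ⟨J.grp.comap (MulAut.conj g⁻¹).toMonoidHom⟩⟩

theorem mem_smul {g x : G} {J : Sub G} : x ∈ (g • J).grp ↔ g⁻¹ * x * g ∈ J.grp := by
  change (MulAut.conj g⁻¹) x ∈ J.grp ↔ _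
  rw [MulAut.conj_apply, inv_inv]

instance : MulAction G (Sub G) where
  one_smul J := by
    ext x
    simp [mem_smul]
  mul_smul g h J := by
    ext x
    simp [mem_smul, mul_assoc]

instance [Finite G] : Finite (Sub G) :=
  Finite.of_injective (fun J => J.grp) (fun _ _ h => Sub.ext h)

theorem card_smul [Finite G] (g : G) (J : Sub G) : Nat.card (g • J).grp = Nat.card J.grp := by
  refine Nat.card_congr
    { toFun := fun x => ⟨g⁻¹ * x.1 * g, mem_smul.mp x.2⟩
      invFun := fun y => ⟨g * y.1 * g⁻¹, mem_smul.mpr (by simp [mul_assoc])⟩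
      left_inv := fun x => Subtype.ext (by simp [mul_assoc])
      right_inv := fun y => Subtype.ext (by simp [mul_assoc]) }

/-- A subgroup fixes the point given by each subgroup in which it is contained. -/
theorem smul_self_of_mem {x : G} {J : Subgroup G} (hx : x ∈ J) : x • (⟨J⟩ : Sub G) = ⟨J⟩ := by
  ext y
  rw [mem_smul]
  change x⁻¹ * y * x ∈ J ↔ y ∈ J
  constructor
  · intro h
    have := mul_mem (mul_mem hx h) (inv_mem hx)
    simpa [mul_assoc] using this
  · exact fun h => mul_mem (mul_mem (inv_mem hx) h) hx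

end Sub

variable {G : Type*} [Group G] (p : ℕ)

/-- Generated by `p`-elements and containing a Sylow `p`-subgroup of `G`. -/
structure Flat (K : Subgroup G) : Prop where
  gen : ∀ M : Subgroup G, (∀ x ∈ K, PEl p x → x ∈ M) → K ≤ M
  syl : ∃ T : Sylow p G, (T : Subgroup G) ≤ K

/-- The subgroup generated by the `p`-elements of `K` fixing `α`. -/
def pStab (K : Subgroup G) {Ω : Type*} [MulAction G Ω] (α : Ω) : Subgroup G :=
  Subgroup.closure {x | x ∈ K ∧ PEl p x ∧ x • α = α}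

variable {p}

theorem pStab_le {K : Subgroup G} {Ω : Type*} [MulAction G Ω] (α : Ω) : pStab p K α ≤ K :=
  (Subgroup.closure_le K).mpr fun _ hx => hx.1

theorem pStab_smul_eq {K : Subgroup G} {Ω : Type*} [MulAction G Ω] {α : Ω} {x : G}
    (hx : x ∈ pStab p K α) : x • α = α := by
  have h : pStab p K α ≤ MulAction.stabilizer G α :=
    (Subgroup.closure_le _).mpr fun _ hy => hy.2.2
  exact h hx

theorem mem_pStab {K : Subgroup G} {Ω : Type*} [MulAction G Ω] {α : Ω} {x : G}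
    (hx : x ∈ K) (hp : PEl p x) (hf : x • α = α) : x ∈ pStab p K α :=
  Subgroup.subset_closure ⟨hx, hp, hf⟩

theorem pEl_of_mem_sylow {T : Sylow p G} {x : G} (hx : x ∈ (T : Subgroup G)) : PEl p x := by
  obtain ⟨a, ha⟩ := T.isPGroup' ⟨x, hx⟩
  exact ⟨a, by simpa using congrArg Subtype.val ha⟩

theorem pEl_conj {x g : G} (hx : PEl p x) : PEl p (g * x * g⁻¹) := by
  obtain ⟨a, ha⟩ := hx
  exact ⟨a, by rw [conj_pow, ha, mul_one, mul_inv_cancel]⟩

theorem mem_smul_sylow {T : Sylow p G} {k x : G} :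
    x ∈ ((k • T : Sylow p G) : Subgroup G) ↔ k⁻¹ * x * k ∈ (T : Subgroup G) := by
  change x ∈ MulAut.conj k • (T : Subgroup G) ↔ _
  rw [Subgroup.mem_pointwise_smul_iff_inv_smul_mem]
  simp

theorem smul_sylow_le {T : Sylow p G} {K : Subgroup G} (hT : (T : Subgroup G) ≤ K) {k : G}
    (hk : k ∈ K) : ((k • T : Sylow p G) : Subgroup G) ≤ K := by
  intro x hx
  have h := mul_mem (mul_mem hk (hT (mem_smul_sylow.mp hx))) (inv_mem hk)
  simpa [mul_assoc] using h

section

variable [Fact p.Prime] [Finite G]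

/-- Sylow subgroups contained in `K` are conjugate in `K`. -/
theorem sylow_conj_in {T T' : Sylow p G} {K : Subgroup G} (hT : (T : Subgroup G) ≤ K)
    (hT' : (T' : Subgroup G) ≤ K) : ∃ k ∈ K, k • T = T' := by
  obtain ⟨⟨k, hk⟩, hkk⟩ := MulAction.exists_smul_eq K (T.subtype hT) (T'.subtype hT')
  refine ⟨k, hk, Sylow.ext (SetLike.ext fun x => ?_)⟩
  rw [mem_smul_sylow]
  constructor
  · intro h
    have hxK : x ∈ K := by
      have := mul_mem (mul_mem hk (hT h)) (inv_mem hk)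
      simpa [mul_assoc] using this
    have hmem : (⟨x, hxK⟩ : K) ∈ (((⟨k, hk⟩ : K) • T.subtype hT : Sylow p K) : Subgroup K) := by
      rw [mem_smul_sylow]
      simpa [Sylow.coe_subtype, Subgroup.mem_subgroupOf] using h
    rw [hkk] at hmem
    simpa [Sylow.coe_subtype, Subgroup.mem_subgroupOf] using hmem
  · intro h
    have hmem : (⟨x, hT' h⟩ : K) ∈ ((T'.subtype hT' : Sylow p K) : Subgroup K) := by
      simpa [Sylow.coe_subtype, Subgroup.mem_subgroupOf] using h
    rw [← hkk, mem_smul_sylow] at hmem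
    simpa [Sylow.coe_subtype, Subgroup.mem_subgroupOf] using hmem

/-- A `p`-element of `K` is conjugate in `K` into any Sylow subgroup contained in `K`. -/
theorem pEl_conj_into {T : Sylow p G} {K : Subgroup G} (hT : (T : Subgroup G) ≤ K) {x : G}
    (hx : x ∈ K) (hp : PEl p x) : ∃ k ∈ K, k⁻¹ * x * k ∈ (T : Subgroup G) := by
  obtain ⟨a, ha⟩ := hp
  have hxp : IsPGroup p (Subgroup.zpowers (⟨x, hx⟩ : K)) := by
    rintro ⟨y, hy⟩
    obtain ⟨i, rfl⟩ := Subgroup.mem_zpowers_iff.mp hy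
    refine ⟨a, Subtype.ext ?_⟩
    have h1 : (⟨x, hx⟩ : K) ^ p ^ a = 1 := Subtype.ext (by simpa using ha)
    simp only [SubmonoidClass.coe_pow, OneMemClass.coe_one]
    rw [← zpow_natCast, ← zpow_mul, mul_comm, zpow_mul, zpow_natCast, h1, one_zpow]
  obtain ⟨Q, hQ⟩ := hxp.exists_le_sylow
  obtain ⟨⟨k, hk⟩, hkk⟩ := MulAction.exists_smul_eq K (T.subtype hT) Q
  refine ⟨k, hk, ?_⟩
  have hmem := hQ (Subgroup.mem_zpowers (⟨x, hx⟩ : K))
  rw [← hkk, mem_smul_sylow] at hmem
  simpa [Sylow.coe_subtype, Subgroup.mem_subgroupOf] using hmem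

theorem exists_sylow_mem {K : Subgroup G} (hK : Flat p K) {x : G} (hx : x ∈ K) (hp : PEl p x) :
    ∃ T : Sylow p G, (T : Subgroup G) ≤ K ∧ x ∈ (T : Subgroup G) := by
  obtain ⟨T, hT⟩ := hK.syl
  obtain ⟨k, hk, hkx⟩ := pEl_conj_into hT hx hp
  exact ⟨k • T, smul_sylow_le hT hk, mem_smul_sylow.mpr hkx⟩

/-- If `T ≤ K` fixes a set invariant under `K`, pointwise, so does `K`. -/
theorem flat_trivial {Ω : Type*} [MulAction G Ω] {K : Subgroup G} (hK : Flat p K)
    {T : Sylow p G} (hT : (T : Subgroup G) ≤ K) {D : Set Ω}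
    (hinv : ∀ k ∈ K, ∀ β ∈ D, k • β ∈ D) (hfix : ∀ t ∈ (T : Subgroup G), ∀ β ∈ D, t • β = β) :
    ∀ k ∈ K, ∀ β ∈ D, k • β = β := by
  let M : Subgroup G :=
    { carrier := {g | ∀ β ∈ D, g • β = β}
      one_mem' := fun β _ => one_smul G β
      mul_mem' := fun {a b} ha hb β hβ => by rw [mul_smul, hb β hβ, ha β hβ]
      inv_mem' := fun {a} ha β hβ => by rw [inv_smul_eq_iff, ha β hβ] }
  have h : K ≤ M := by
    refine hK.gen M fun x hx hp β hβ => ?_
    obtain ⟨k, hk, hkx⟩ := pEl_conj_into hT hx hp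
    have h1 := hfix _ hkx (k⁻¹ • β) (hinv k⁻¹ (inv_mem hk) β hβ)
    rw [← mul_smul, mul_inv_cancel_right, mul_smul] at h1
    exact smul_left_cancel _ h1
  exact fun k hk β hβ => h hk β hβ

theorem flat_pStab {Ω : Type*} [MulAction G Ω] {K : Subgroup G} {α : Ω} {T : Sylow p G}
    (hT : (T : Subgroup G) ≤ K) (hfix : ∀ t ∈ (T : Subgroup G), t • α = α) :
    Flat p (pStab p K α) ∧ (T : Subgroup G) ≤ pStab p K α := by
  have hle : (T : Subgroup G) ≤ pStab p K α :=
    fun t ht => mem_pStab (hT ht) (pEl_of_mem_sylow ht) (hfix t ht)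
  refine ⟨⟨fun M hM => (Subgroup.closure_le M).mpr ?_, T, hle⟩, hle⟩
  rintro x ⟨hx, hp, hf⟩
  exact hM x (mem_pStab hx hp hf) hp

/-- A `p`-element normalizing a flat lies in it. -/
theorem mem_of_smul_eq {J : Subgroup G} (hJ : Flat p J) {x : G} (hp : PEl p x)
    (hx : x • (⟨J⟩ : Sub G) = ⟨J⟩) : x ∈ J := by
  obtain ⟨T, hT⟩ := hJ.syl
  set L : Subgroup G := J ⊔ Subgroup.zpowers x with hL
  have hxL : x ∈ L := Subgroup.mem_sup_right (Subgroup.mem_zpowers x)
  have hTL : (T : Subgroup G) ≤ L := hT.trans le_sup_left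
  have hLN : L ≤ MulAction.stabilizer G (⟨J⟩ : Sub G) :=
    sup_le (fun y hy => Sub.smul_self_of_mem hy) (Subgroup.zpowers_le.mpr hx)
  obtain ⟨l, hl, hlx⟩ := pEl_conj_into hTL hxL hp
  have h1 : l⁻¹ * x * l ∈ J := hT hlx
  have h2 : (l⁻¹) • (⟨J⟩ : Sub G) = ⟨J⟩ := hLN (inv_mem hl)
  have h3 : l • (⟨J⟩ : Sub G) = ⟨J⟩ := hLN hl
  have h4 : x ∈ (l • (⟨J⟩ : Sub G)).grp := Sub.mem_smul.mpr h1
  rw [h3] at h4
  exact h4

/-- A flat normalizing a flat is contained in it. -/
theorem flat_le_of_fix {J M : Subgroup G} (hJ : Flat p J) (hM : Flat p M)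
    (h : ∀ x ∈ M, x • (⟨J⟩ : Sub G) = ⟨J⟩) : M ≤ J :=
  hM.gen J fun x hx hp => mem_of_smul_eq hJ hp (h x hx)

theorem flat_smul {J : Sub G} (hJ : Flat p J.grp) (g : G) : Flat p (g • J).grp := by
  obtain ⟨T, hT⟩ := hJ.syl
  refine ⟨fun M hM => ?_, g • T, fun x hx => Sub.mem_smul.mpr (hT (mem_smul_sylow.mp hx))⟩
  intro x hx
  have hsub : J.grp ≤ M.comap (MulAut.conj g).toMonoidHom := by
    refine hJ.gen _ fun y hy hp => ?_
    change g * y * g⁻¹ ∈ M
    exact hM _ (Sub.mem_smul.mpr (by simpa [mul_assoc] using hy)) (pEl_conj hp)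
  have h1 := hsub (Sub.mem_smul.mp hx)
  simpa [mul_assoc] using h1

end

end Cfsg.Agent.SylowFix64
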