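import Cfsg.Agent.SylowFix64.Orbit

/-!
# Fixed points of Sylow subgroups (helper64): the bound

In a transitive set for a group generated by `p`-elements (with nontrivial action) a Sylow
`p`-subgroup fixes at most `(p-1)/(2p-1)` of the points.  In a minimal counterexample one shows,
along a chain of flats, that any `p` points have a common fixing Sylow subgroup, which is absurd
for a cycle of length `p` of a `p`-element.
-/

set_option autoImplicit false

open scoped Pointwise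

namespace Cfsg.Agent.SylowFix64

variable {G : Type*} [Group G] {p : ℕ}

/-- The bound for all orbits of flats on subgroups with fewer than `n` elements. -/
def BD (p : ℕ) (G : Type*) [Group G] (n : ℕ) : Prop :=
  ∀ (K : Subgroup G) (J : Sub G), Flat p K → (orb K J).ncard < n → (∃ k ∈ K, k • J ≠ J) →
    ∀ T : Sylow p G, (T : Subgroup G) ≤ K → 0 ≤ dfc T (orb K J)

variable [Fact p.Prime] [Finite G]

theorem eq_of_le_card {J L : Subgroup G} (h : J ≤ L) (hc : Nat.card L ≤ Nat.card J) : J = L :=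
  Subgroup.eq_of_le_of_card_ge h hc

theorem dfc_eq {Ω : Type*} {D : Set Ω} [MulAction G Ω] {T : Sylow p G} {k : ℕ}
    (h : D.ncard = (fx T D).ncard + p * k) :
    dfc T D = (p : ℤ) * (((p : ℤ) - 1) * k - (fx T D).ncard) := by
  simp only [dfc, h]
  push_cast
  ring

theorem le_mul_of_dfc {Ω : Type*} {D : Set Ω} [MulAction G Ω] {T : Sylow p G} {k : ℕ}
    (h : D.ncard = (fx T D).ncard + p * k) {e : ℤ} :
    dfc T D ≤ (p : ℤ) * e ↔ ((p : ℤ) - 1) * k - (fx T D).ncard ≤ e := by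
  rw [dfc_eq h]
  exact mul_le_mul_iff_right₀ (by exact_mod_cast (Fact.out : p.Prime).pos)

theorem class_moved {Ω : Type*} [MulAction G Ω] {K : Subgroup G} (hK : Flat p K) {α : Ω}
    {T : Sylow p G} (hT : (T : Subgroup G) ≤ K) (hfix : ∀ t ∈ (T : Subgroup G), t • α = α)
    (hmov : ∃ k ∈ K, k • α ≠ α) :
    ∃ k ∈ K, k • (⟨pStab p K α⟩ : Sub G) ≠ ⟨pStab p K α⟩ := by
  by_contra h
  push Not at h
  obtain ⟨k, hk, hka⟩ := hmov
  exact hka (pStab_smul_eq (flat_le_of_fix (flat_pStab hT hfix).1 hK h hk))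

/-- The bound for an orbit on an arbitrary set follows from the bound for subgroups. -/
theorem orbit_bound {Ω : Type*} [MulAction G Ω] [Finite Ω] {n : ℕ} (hn : BD p G n)
    {K : Subgroup G} (hK : Flat p K) {α : Ω} (hlt : (orb K α).ncard < n)
    (hmov : ∃ k ∈ K, k • α ≠ α) {T : Sylow p G} (hT : (T : Subgroup G) ≤ K) :
    0 ≤ dfc T (orb K α) := by
  rcases (fx T (orb K α)).eq_empty_or_nonempty with he | ⟨β, hβ, hfix⟩
  · exact dfc_nonneg_of_fx_eq_zero T (by rw [he, Set.ncard_empty])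
  have hmovβ : ∃ k ∈ K, k • β ≠ β := by
    by_contra h
    push Not at h
    obtain ⟨k, hk, hka⟩ := hmov
    obtain ⟨l, hl, rfl⟩ := hβ
    have h1 := h (l * k * l⁻¹) (mul_mem (mul_mem hl hk) (inv_mem hl))
    rw [mul_smul, mul_smul, inv_smul_smul] at h1
    exact hka (smul_left_cancel _ h1)
  rw [← orb_eq hβ] at hlt ⊢
  obtain ⟨x, hx, hcard, hfx⟩ := class_reduce hT hfix
  have h1 : (orb K (⟨pStab p K β⟩ : Sub G)).ncard < n := by
    refine lt_of_le_of_lt ?_ hlt
    rw [hcard]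
    exact Nat.le_mul_of_pos_left _ hx
  have h2 := hn K ⟨pStab p K β⟩ hK h1 (class_moved hK hT hfix hmovβ) T hT
  simp only [dfc, hcard, hfx T hT] at h2 ⊢
  push_cast
  nlinarith [Int.natCast_nonneg x]

/-- A point and a strictly larger flat of another class cannot be pinned by the same point. -/
theorem atom {n : ℕ} (hn : BD p G n) {K : Subgroup G} (hK : Flat p K) {J L : Sub G}
    (hJ : Flat p J.grp) (hL : Flat p L.grp) (hJL : J.grp ≤ L.grp) (hLK : L.grp ≤ K)
    (hne : J.grp ≠ L.grp) (hLne : L.grp ≠ K) (hA : (orb K J).ncard < n)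
    (hB : (orb K L).ncard < n) {T : Sylow p G} (hT : (T : Subgroup G) ≤ J.grp)
    {e : ℤ} (he : e ≤ (p : ℤ) - 2) (hd : dfc T (orb K J) ≤ (p : ℤ) * e) : False := by
  have hp : (2 : ℤ) ≤ (p : ℤ) := by exact_mod_cast (Fact.out : p.Prime).two_le
  have hTL : (T : Subgroup G) ≤ L.grp := hT.trans hJL
  have hTK : (T : Subgroup G) ≤ K := hTL.trans hLK
  set A := orb K J with hAdef
  set B := orb K L with hBdef
  set Δ := orb L.grp J with hΔdef
  have hAinv : ∀ k ∈ K, ∀ β ∈ A, k • β ∈ A := fun k hk β hβ => smul_mem_orb hk hβ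
  have hΔA : Δ ⊆ A := orb_subset_of_inv (fun k hk => hAinv k (hLK hk)) (self_mem_orb K J)
  have hmovA : ∀ y ∈ A, ∃ k ∈ L.grp, k • y ≠ y := by
    intro y hy
    by_contra h
    push Not at h
    have h1 : L.grp ≤ y.grp := flat_le_of_fix (orb_sub_flat hJ hy) hL h
    have h2 : Nat.card L.grp ≤ Nat.card J.grp :=
      (Nat.le_of_dvd Nat.card_pos (Subgroup.card_dvd_of_le h1)).trans (orb_sub_card hy).le
    exact hne (eq_of_le_card hJL h2)
  have hJfix : J ∈ fx T A := ⟨self_mem_orb K J, fun t ht => Sub.smul_self_of_mem (hT ht)⟩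
  have hfpos : 0 < (fx T A).ncard := (Set.ncard_pos (Set.toFinite _)).mpr ⟨J, hJfix⟩
  have dA := double_count hJ (hJL.trans hLK) hTK
  have dB := double_count hL hLK hTK
  have dΔ := double_count hJ hJL hTL
  rw [← hAdef] at dA
  rw [← hBdef] at dB
  rw [← hΔdef] at dΔ
  by_cases hall : Δ = A
  · rw [hall, dA] at dΔ
    have heq : nsyl p K = nsyl p L.grp := Nat.eq_of_mul_eq_mul_right hfpos dΔ
    apply hLne
    refine le_antisymm hLK (hK.gen _ fun x hx hxp => ?_)
    obtain ⟨S, hS, hxS⟩ := exists_sylow_mem hK hx hxp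
    have hsets : {S : Sylow p G | (S : Subgroup G) ≤ L.grp} = {S : Sylow p G | (S : Subgroup G) ≤ K} := by
      refine Set.eq_of_subset_of_ncard_le (fun S hS => le_trans hS hLK) ?_ (Set.toFinite _)
      rw [← Nat.card_coe_set_eq, ← Nat.card_coe_set_eq]
      exact le_of_eq heq
    have : S ∈ {S : Sylow p G | (S : Subgroup G) ≤ L.grp} := hsets ▸ hS
    exact this hxS
  -- the general case: two moved pieces
  set R := A \ Δ with hR
  have hRinv : ∀ k ∈ L.grp, ∀ β ∈ R, k • β ∈ R := by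
    intro k hk β hβ
    refine ⟨hAinv k (hLK hk) β hβ.1, fun hc => hβ.2 ?_⟩
    have := smul_mem_orb (inv_mem hk) hc
    rwa [inv_smul_smul] at this
  obtain ⟨y, hy⟩ : R.Nonempty := by
    by_contra hc
    rw [Set.not_nonempty_iff_eq_empty, Set.sdiff_eq_empty] at hc
    exact hall (Set.Subset.antisymm hΔA hc)
  obtain ⟨kR, hkR1, hkR⟩ := fx_add_le hL hTL hRinv hy (hmovA y hy.1)
  obtain ⟨kΔ, hkΔ1, hkΔ⟩ := fx_add_le hL hTL (fun k hk β hβ => smul_mem_orb hk hβ)
    (self_mem_orb L.grp J) (hmovA J (self_mem_orb K J))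
  rw [← hΔdef] at hkΔ
  have hAk : A.ncard = (fx T A).ncard + p * (kΔ + kR) := by
    have h1 : A = Δ ∪ R := (Set.union_sdiff_cancel hΔA).symm
    have h2 : fx T A = fx T Δ ∪ fx T R := by
      rw [h1]
      ext x
      simp only [fx, Set.mem_ofPred_eq, Set.mem_union]
      tauto
    have h3 : Disjoint Δ R := Set.disjoint_sdiff_right
    rw [h2, Set.ncard_union_eq (h3.mono (fx_subset T Δ) (fx_subset T R)), h1,
      Set.ncard_union_eq h3, hkR, hkΔ]
    ring
  have hdA := (le_mul_of_dfc hAk).mp hd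
  -- bounds on the two smaller orbits
  have hBmov : ∃ k ∈ K, k • L ≠ L := by
    by_contra h
    push Not at h
    exact hLne (le_antisymm hLK (flat_le_of_fix hL hK h))
  have bB := hn K L hK hB hBmov T hTK
  have bΔ := hn L.grp J hL (lt_of_le_of_lt (Set.ncard_le_ncard hΔA (Set.toFinite _)) hA)
    (hmovA J (self_mem_orb K J)) T hTL
  rw [← hBdef] at bB
  rw [← hΔdef] at bΔ
  have hΔpos : 0 < Δ.ncard := (Set.ncard_pos (Set.toFinite _)).mpr ⟨J, self_mem_orb _ _⟩
  have hBpos : 0 < B.ncard := (Set.ncard_pos (Set.toFinite _)).mpr ⟨L, self_mem_orb _ _⟩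
  have key : (fx T A).ncard * Δ.ncard * B.ncard
      = A.ncard * (fx T B).ncard * (fx T Δ).ncard := by
    apply Nat.eq_of_mul_eq_mul_left (nsyl_pos hK)
    calc nsyl p K * ((fx T A).ncard * Δ.ncard * B.ncard)
        = (nsyl p K * (fx T A).ncard) * Δ.ncard * B.ncard := by ring
      _ = (A.ncard * nsyl p J.grp) * Δ.ncard * B.ncard := by rw [dA]
      _ = A.ncard * (Δ.ncard * nsyl p J.grp) * B.ncard := by ring
      _ = A.ncard * (nsyl p L.grp * (fx T Δ).ncard) * B.ncard := by rw [dΔ]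
      _ = A.ncard * (B.ncard * nsyl p L.grp) * (fx T Δ).ncard := by ring
      _ = A.ncard * (nsyl p K * (fx T B).ncard) * (fx T Δ).ncard := by rw [dB]
      _ = nsyl p K * (A.ncard * (fx T B).ncard * (fx T Δ).ncard) := by ring
  simp only [dfc] at bB bΔ
  zify at key hAk hΔpos hBpos hkR1 hkΔ1 hfpos
  have hprod : (((2 * (p : ℤ) - 1) * (fx T B).ncard) * ((2 * (p : ℤ) - 1) * (fx T Δ).ncard))
      ≤ (((p : ℤ) - 1) * B.ncard) * (((p : ℤ) - 1) * Δ.ncard) := by
    refine mul_le_mul (by linarith) (by linarith) ?_ ?_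
    · exact mul_nonneg (by linarith) (Int.natCast_nonneg _)
    · exact mul_nonneg (by linarith) (Int.natCast_nonneg _)
  have hsq : (2 * (p : ℤ) - 1) ^ 2 * (fx T A).ncard ≤ ((p : ℤ) - 1) ^ 2 * A.ncard := by
    have hpos : (0 : ℤ) < (Δ.ncard : ℤ) * B.ncard := mul_pos hΔpos hBpos
    refine le_of_mul_le_mul_right ?_ hpos
    calc (2 * (p : ℤ) - 1) ^ 2 * (fx T A).ncard * ((Δ.ncard : ℤ) * B.ncard)
        = (2 * (p : ℤ) - 1) ^ 2 * ((fx T A).ncard * (Δ.ncard : ℤ) * B.ncard) := by ring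
      _ = (A.ncard : ℤ) * (((2 * (p : ℤ) - 1) * (fx T B).ncard) *
            ((2 * (p : ℤ) - 1) * (fx T Δ).ncard)) := by rw [key]; ring
      _ ≤ (A.ncard : ℤ) * ((((p : ℤ) - 1) * B.ncard) * (((p : ℤ) - 1) * Δ.ncard)) :=
          mul_le_mul_of_nonneg_left hprod (Int.natCast_nonneg _)
      _ = ((p : ℤ) - 1) ^ 2 * A.ncard * ((Δ.ncard : ℤ) * B.ncard) := by ring
  rw [hAk] at hsq
  push_cast at hdA
  have h3 : (3 * (p : ℤ) - 2) * (fx T A).ncard ≤ ((p : ℤ) - 1) ^ 2 * ((kΔ : ℤ) + kR) := by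
    refine le_of_mul_le_mul_left ?_ (by linarith : (0 : ℤ) < p)
    nlinarith
  nlinarith [mul_le_mul_of_nonneg_left hdA (by linarith : (0 : ℤ) ≤ 3 * (p : ℤ) - 2),
    mul_le_mul_of_nonneg_left (by linarith : (2 : ℤ) ≤ (kΔ : ℤ) + kR)
      (mul_nonneg (by linarith : (0 : ℤ) ≤ (p : ℤ) - 1) (by linarith : (0 : ℤ) ≤ 2 * (p : ℤ) - 1)),
    mul_le_mul_of_nonneg_left he (by linarith : (0 : ℤ) ≤ 3 * (p : ℤ) - 2)]

/-- Every point not fixed by `K` is fixed by a Sylow subgroup in `K`, with small deficit. -/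
def Level (p : ℕ) (n : ℕ) (D0 : Set (Sub G)) (K : Subgroup G) (e : ℤ) : Prop :=
  ∀ α ∈ D0, (∃ k ∈ K, k • α ≠ α) → ∃ T : Sylow p G, (T : Subgroup G) ≤ K ∧
    (∀ t ∈ (T : Subgroup G), t • α = α) ∧
    (orb K (⟨pStab p K α⟩ : Sub G)).ncard < n ∧
    dfc T (orb K (⟨pStab p K α⟩ : Sub G)) ≤ (p : ℤ) * e

theorem step {n : ℕ} (hn : BD p G n) {K : Subgroup G} {J : Sub G} (hJ : Flat p J.grp)
    (hJK : J.grp ≤ K) {α : Sub G} {T0 : Sylow p G} (hT0 : (T0 : Subgroup G) ≤ K)
    (hfix : ∀ t ∈ (T0 : Subgroup G), t • α = α) {e : ℤ} (he0 : 0 ≤ e + 1)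
    (he : e + 1 ≤ (p : ℤ) - 2)
    (hB : (orb K (⟨pStab p K α⟩ : Sub G)).ncard < n ∨
      (J ∈ orb K (⟨pStab p K α⟩ : Sub G) ∧ (orb K (⟨pStab p K α⟩ : Sub G)).ncard ≤ n))
    (hd : dfc T0 (orb K (⟨pStab p K α⟩ : Sub G)) ≤ (p : ℤ) * e)
    (hone : ∀ c ∈ orb K (⟨pStab p K α⟩ : Sub G), (∀ x ∈ J.grp, x • c = c) → c = J)
    (hmov : ∃ x ∈ J.grp, x • α ≠ α) :
    ∃ T : Sylow p G, (T : Subgroup G) ≤ J.grp ∧ (∀ t ∈ (T : Subgroup G), t • α = α) ∧
      (orb J.grp (⟨pStab p J.grp α⟩ : Sub G)).ncard < n ∧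
      dfc T (orb J.grp (⟨pStab p J.grp α⟩ : Sub G)) ≤ (p : ℤ) * (e + 1) := by
  classical
  have hp : (2 : ℤ) ≤ (p : ℤ) := by exact_mod_cast (Fact.out : p.Prime).two_le
  set J' : Sub G := ⟨pStab p K α⟩ with hJ'def
  set B := orb K J' with hBdef
  set Δ := orb J.grp J' with hΔdef
  have hJ' : Flat p J'.grp := (flat_pStab hT0 hfix).1
  have hmov' : ∃ x ∈ J.grp, x • J' ≠ J' := by
    by_contra h
    push Not at h
    obtain ⟨x, hx, hxa⟩ := hmov
    exact hxa (pStab_smul_eq (flat_le_of_fix hJ' hJ h hx))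
  obtain ⟨T, hT⟩ := hJ.syl
  have hTK : (T : Subgroup G) ≤ K := hT.trans hJK
  have hBinv : ∀ k ∈ K, ∀ β ∈ B, k • β ∈ B := fun k hk β hβ => smul_mem_orb hk hβ
  have hΔB : Δ ⊆ B := orb_subset_of_inv (fun k hk => hBinv k (hJK hk)) (self_mem_orb K J')
  set F1 : Set (Sub G) := {c ∈ B | ∀ x ∈ J.grp, x • c = c} with hF1
  set R : Set (Sub G) := (B \ Δ) \ F1 with hR
  have hΔF : Disjoint Δ F1 := by
    rw [Set.disjoint_left]
    rintro c ⟨g, hg, rfl⟩ ⟨-, hc⟩
    obtain ⟨x, hx, hxJ⟩ := hmov'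
    have h1 := hc (g * x * g⁻¹) (mul_mem (mul_mem hg hx) (inv_mem hg))
    rw [mul_smul, mul_smul, inv_smul_smul] at h1
    exact hxJ (smul_left_cancel _ h1)
  have hsplit : B = Δ ∪ (F1 ∪ R) := by
    ext c
    simp only [hR, Set.mem_union, Set.mem_sdiff]
    constructor
    · intro hc
      tauto
    · rintro (h | h | h)
      exacts [hΔB h, h.1, h.1.1]
  have hdis2 : Disjoint F1 R := Set.disjoint_sdiff_right
  have hdis1 : Disjoint Δ (F1 ∪ R) := by
    refine Set.disjoint_union_right.mpr ⟨hΔF, ?_⟩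
    rw [Set.disjoint_left]
    exact fun c hc hcR => hcR.1.2 hc
  have hBn : B.ncard ≤ n := hB.elim le_of_lt (fun h => h.2)
  have hΔn : Δ.ncard < n := by
    rcases hB with h | ⟨hJB, h⟩
    · exact lt_of_le_of_lt (Set.ncard_le_ncard hΔB (Set.toFinite _)) h
    · refine lt_of_lt_of_le (Set.ncard_lt_ncard ?_ (Set.toFinite _)) h
      refine ⟨hΔB, fun hsub => Set.disjoint_left.mp hΔF (hsub hJB) ⟨hJB, ?_⟩⟩
      exact fun x hx => Sub.smul_self_of_mem hx
  have hRinv : ∀ k ∈ J.grp, ∀ β ∈ R, k • β ∈ R := by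
    intro k hk β hβ
    refine ⟨⟨hBinv k (hJK hk) β hβ.1.1, fun hc => hβ.1.2 ?_⟩, fun hc => hβ.2 ⟨hβ.1.1, fun x hx => ?_⟩⟩
    · have := smul_mem_orb (inv_mem hk) hc
      rwa [inv_smul_smul] at this
    · have h1 := hc.2 (k * x * k⁻¹) (mul_mem (mul_mem hk hx) (inv_mem hk))
      rw [mul_smul, mul_smul, inv_smul_smul] at h1
      exact smul_left_cancel _ h1
  have bR : 0 ≤ dfc T R := by
    refine union_bound hRinv fun β hβ => ?_
    refine hn J.grp β hJ ?_ ?_ T hT
    · refine lt_of_lt_of_le (Set.ncard_lt_ncard ?_ (Set.toFinite _)) hBn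
      refine ⟨(orb_subset_of_inv hRinv hβ).trans fun c hc => hc.1.1, fun hsub => ?_⟩
      exact (orb_subset_of_inv hRinv hβ (hsub (self_mem_orb K J'))).1.2 (self_mem_orb _ _)
    · by_contra h
      push Not at h
      exact hβ.2 ⟨hβ.1.1, h⟩
  have bF : -(p : ℤ) ≤ dfc T F1 := by
    have h1 : F1.ncard ≤ 1 := (Set.ncard_le_one (Set.toFinite _)).mpr
      fun a ha b hb => (hone a ha.1 ha.2).trans (hone b hb.1 hb.2).symm
    have h2 := Set.ncard_le_ncard (fx_subset T F1) (Set.toFinite _)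
    simp only [dfc]
    zify at h1 h2
    nlinarith [Int.natCast_nonneg F1.ncard, Int.natCast_nonneg (fx T F1).ncard]
  have hdT : dfc T B ≤ (p : ℤ) * e := by
    simp only [dfc] at hd ⊢
    rwa [fx_ncard_eq hTK hT0 hBinv]
  rw [hsplit, dfc_union T hdis1, dfc_union T hdis2] at hdT
  have hdΔ : dfc T Δ ≤ (p : ℤ) * (e + 1) := by linarith
  -- positivity
  obtain ⟨k, hk1, hk⟩ := fx_add_le hJ hT (fun x hx β hβ => smul_mem_orb hx hβ)
    (self_mem_orb J.grp J') hmov'
  rw [← hΔdef] at hk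
  have hkd := (le_mul_of_dfc hk).mp hdΔ
  have hf : (fx T Δ).ncard ≠ 0 := by
    intro h0
    rw [h0] at hkd
    push_cast at hkd
    zify at hk1
    nlinarith [mul_le_mul_of_nonneg_left hk1 (by linarith : (0 : ℤ) ≤ (p : ℤ) - 1)]
  obtain ⟨c, ⟨g, hg, rfl⟩, hcfix⟩ := Set.nonempty_of_ncard_ne_zero hf
  have hT' : ((g⁻¹ • T : Sylow p G) : Subgroup G) ≤ J.grp := smul_sylow_le hT (inv_mem hg)
  have hT'fix : ∀ t ∈ ((g⁻¹ • T : Sylow p G) : Subgroup G), t • J' = J' := by
    intro t ht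
    rw [mem_smul_sylow, inv_inv] at ht
    have h1 := hcfix _ ht
    rw [mul_smul, mul_smul, inv_smul_smul] at h1
    exact smul_left_cancel _ h1
  have hT'α : ∀ t ∈ ((g⁻¹ • T : Sylow p G) : Subgroup G), t • α = α := fun t ht =>
    pStab_smul_eq (mem_of_smul_eq hJ' (pEl_of_mem_sylow ht) (hT'fix t ht))
  have heq : pStab p J.grp α = pStab p J.grp J' := by
    refine congrArg Subgroup.closure (Set.ext fun x => and_congr_right fun hx =>
      and_congr_right fun hxp => ⟨fun h => ?_, fun h => ?_⟩)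
    · exact Sub.smul_self_of_mem (mem_pStab (hJK hx) hxp h)
    · exact pStab_smul_eq (mem_of_smul_eq hJ' hxp h)
  refine ⟨g⁻¹ • T, hT', hT'α, ?_⟩
  rw [heq]
  obtain ⟨x, hx, hcard, hfx⟩ := class_reduce hT' hT'fix
  rw [← hΔdef] at hcard hfx
  set C := orb J.grp (⟨pStab p J.grp J'⟩ : Sub G) with hC
  refine ⟨lt_of_le_of_lt (by rw [hcard]; exact Nat.le_mul_of_pos_left _ hx) hΔn, ?_⟩
  have h1 : dfc T Δ = (x : ℤ) * dfc (g⁻¹ • T) C := by
    have h2 := fx_ncard_eq hT hT' (D := Δ) (fun k hk β hβ => smul_mem_orb hk hβ)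
    simp only [dfc, hcard, h2, hfx _ hT']
    push_cast
    ring
  rw [h1] at hdΔ
  rcases le_or_gt (dfc (g⁻¹ • T) C) 0 with h | h
  · exact h.trans (by positivity)
  · zify at hx
    nlinarith

/-- The bound for orbits of flats on subgroups. -/
theorem bd_all : ∀ n : ℕ, BD p G n := by
  intro n
  induction n with
  | zero => exact fun K J _ h => absurd h (Nat.not_lt_zero _)
  | succ n hn =>
  intro H J00 hH hlt hmov T hT
  rcases Nat.lt_or_ge (orb H J00).ncard n with hl | hge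
  · exact hn H J00 hH hl hmov T hT
  have hcardn : (orb H J00).ncard = n := by omega
  by_contra hneg
  rw [not_le] at hneg
  have hp : (2 : ℤ) ≤ (p : ℤ) := by exact_mod_cast (Fact.out : p.Prime).two_le
  -- pass to a class of flats
  obtain ⟨c, hc, hcfix⟩ : (fx T (orb H J00)).Nonempty := by
    by_contra h
    rw [Set.not_nonempty_iff_eq_empty] at h
    exact absurd (dfc_nonneg_of_fx_eq_zero T (by rw [h, Set.ncard_empty])) (not_le.mpr hneg)
  obtain ⟨x, hx, hxcard, hxfx⟩ := class_reduce hT hcfix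
  rw [orb_eq hc] at hxcard hxfx
  set D0 := orb H (⟨pStab p H c⟩ : Sub G) with hD0
  have hD0neg : dfc T D0 < 0 := by
    have h1 : dfc T (orb H J00) = (x : ℤ) * dfc T D0 := by
      simp only [dfc, hxcard, hxfx T hT]
      push_cast
      ring
    rw [h1] at hneg
    nlinarith [Int.natCast_nonneg x]
  have hcmov : ∃ k ∈ H, k • c ≠ c := by
    by_contra h
    push Not at h
    obtain ⟨k, hk, hka⟩ := hmov
    obtain ⟨l, hl, hlc⟩ := hc
    have h1 := h (l * k * l⁻¹) (mul_mem (mul_mem hl hk) (inv_mem hl))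
    rw [← hlc, mul_smul, mul_smul, inv_smul_smul] at h1
    exact hka (smul_left_cancel _ h1)
  have hD0n : D0.ncard = n := by
    rcases Nat.lt_or_ge D0.ncard n with h | h
    · exact absurd (hn H _ hH h (class_moved hH hT hcfix hcmov) T hT) (not_le.mpr hD0neg)
    · have : D0.ncard ≤ x * D0.ncard := Nat.le_mul_of_pos_left _ hx
      omega
  have hD0inv : ∀ k ∈ H, ∀ β ∈ D0, k • β ∈ D0 := fun k hk β hβ => smul_mem_orb hk hβ
  have hflat : ∀ z ∈ D0, Flat p z.grp := fun z hz => orb_sub_flat (flat_pStab hT hcfix).1 hz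
  have hleH : ∀ z ∈ D0, z.grp ≤ H := fun z hz => orb_sub_le (pStab_le c) hz
  have hcanon : ∀ z ∈ D0, (⟨pStab p H z⟩ : Sub G) = z := by
    intro z hz
    refine Sub.ext (le_antisymm ((Subgroup.closure_le _).mpr ?_) ?_)
    · rintro y ⟨-, hyp, hyf⟩
      exact mem_of_smul_eq (hflat z hz) hyp hyf
    · exact (hflat z hz).gen _ fun y hy hyp =>
        mem_pStab (hleH z hz hy) hyp (Sub.smul_self_of_mem hy)
  have huniq : ∀ z ∈ D0, ∀ w ∈ D0, (∀ y ∈ z.grp, y • w = w) → w = z := by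
    intro z hz w hw h
    refine (Sub.ext (eq_of_le_card (flat_le_of_fix (hflat w hw) (hflat z hz) h) ?_)).symm
    rw [orb_sub_card hw, orb_sub_card hz]
  -- the deficit of `D0` is at most `-p`
  obtain ⟨k0, -, hk0⟩ := fx_add_le hH hT hD0inv (self_mem_orb H _) (class_moved hH hT hcfix hcmov)
  have hd0 : dfc T D0 ≤ (p : ℤ) * (-1) := by
    rw [le_mul_of_dfc hk0]
    rw [dfc_eq hk0] at hD0neg
    have : ((p : ℤ) - 1) * k0 - (fx T D0).ncard < 0 := by
      by_contra hh
      rw [not_lt] at hh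
      exact absurd (mul_nonneg (by linarith : (0 : ℤ) ≤ p) hh) (not_le.mpr hD0neg)
    omega
  -- a cycle of length `p`
  have hne := fx_ne_self hH hT hD0inv (self_mem_orb H _) (class_moved hH hT hcfix hcmov)
  obtain ⟨z, hz, hzT⟩ : ∃ z ∈ D0, z ∉ fx T D0 := by
    by_contra h
    push Not at h
    exact hne (Set.Subset.antisymm (fx_subset T D0) h)
  obtain ⟨t, ht, htz⟩ : ∃ t ∈ (T : Subgroup G), t • z ≠ z := by
    by_contra h
    push Not at h
    exact hzT ⟨hz, h⟩
  obtain ⟨u, huH, huE, huz, hupz⟩ : ∃ u ∈ H, PEl p u ∧ u • z ≠ z ∧ u ^ p • z = z := by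
    obtain ⟨a, ha⟩ := pEl_of_mem_sylow ht
    have hex : ∃ j, t ^ p ^ j • z = z := ⟨a, by rw [ha, one_smul]⟩
    classical
    have hspec := Nat.find_spec hex
    have hpos : Nat.find hex ≠ 0 := fun h0 => htz (by simpa [h0] using hspec)
    obtain ⟨j, hj⟩ := Nat.exists_eq_succ_of_ne_zero hpos
    refine ⟨t ^ p ^ j, hT (pow_mem ht _), ?_, Nat.find_min hex (by omega), ?_⟩
    · exact pEl_of_mem_sylow (pow_mem ht _)
    · rw [← pow_mul, ← pow_succ]
      simpa [hj] using hspec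
  have hzi : ∀ i : ℕ, u ^ i • z ∈ D0 := fun i => hD0inv _ (pow_mem huH i) z hz
  -- the chain of flats
  have chain : ∀ i : ℕ, i + 2 ≤ p → ∃ K : Subgroup G, Flat p K ∧ K ≤ H ∧
      (∀ j ≤ i, ∀ y ∈ K, y • (u ^ j • z) = u ^ j • z) ∧ Level p n D0 K i := by
    intro i
    induction i with
    | zero =>
      intro hp2
      refine ⟨z.grp, hflat z hz, hleH z hz, fun j hj y hy => ?_, fun α hα hαmov => ?_⟩
      · obtain rfl : j = 0 := Nat.le_zero.mp hj
        simpa using Sub.smul_self_of_mem hy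
      · obtain ⟨T0, hT0⟩ := (hflat α hα).syl
        have hT0H := hT0.trans (hleH α hα)
        have hcl : orb H (⟨pStab p H α⟩ : Sub G) = D0 := by rw [hcanon α hα]; exact orb_eq hα
        have hs := step hn (hflat z hz) (hleH z hz) hT0H
          (fun y hy => Sub.smul_self_of_mem (hT0 hy)) (e := -1) (by norm_num) (by linarith)
          (Or.inr ⟨by rw [hcl]; exact hz, by rw [hcl, hD0n]⟩) ?_ ?_ hαmov
        · simpa using hs
        · rw [hcl]
          simp only [dfc] at hd0 ⊢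
          rwa [fx_ncard_eq hT0H hT hD0inv]
        · rw [hcl]
          exact fun w hw h => huniq z hz w hw h
    | succ i ih =>
      intro hi
      obtain ⟨K, hK, hKH, hKfix, hlev⟩ := ih (by omega)
      by_cases hnew : ∀ y ∈ K, y • (u ^ (i + 1) • z) = u ^ (i + 1) • z
      · refine ⟨K, hK, hKH, fun j hj y hy => ?_, fun α hα hαmov => ?_⟩
        · rcases Nat.lt_or_ge j (i + 1) with h | h
          · exact hKfix j (by omega) y hy
          · obtain rfl : j = i + 1 := by omega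
            exact hnew y hy
        · obtain ⟨S, h1, h2, h3, h4⟩ := hlev α hα hαmov
          exact ⟨S, h1, h2, h3, h4.trans (mul_le_mul_of_nonneg_left (by simp) (by linarith))⟩
      · push Not at hnew
        set w := u ^ (i + 1) • z with hw
        obtain ⟨S, hSK, hSfix, hAn, hAd⟩ := hlev w (hzi _) hnew
        obtain ⟨hJflat, hSJ⟩ := flat_pStab hSK hSfix
        have hJK : pStab p K w ≤ K := pStab_le w
        refine ⟨pStab p K w, hJflat, hJK.trans hKH, fun j hj y hy => ?_, fun α hα hαmov => ?_⟩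
        · rcases Nat.lt_or_ge j (i + 1) with h | h
          · exact hKfix j (by omega) y (hJK hy)
          · obtain rfl : j = i + 1 := by omega
            exact pStab_smul_eq hy
        · obtain ⟨y, hy, hya⟩ := hαmov
          obtain ⟨T0, hT0K, hT0fix, hBn, hBd⟩ := hlev α hα ⟨y, hJK hy, hya⟩
          have hiz : (i : ℤ) + 1 ≤ (p : ℤ) - 2 := by
            have : ((i + 1 + 2 : ℕ) : ℤ) ≤ (p : ℤ) := by exact_mod_cast hi
            push_cast at this
            linarith
          have hs := step hn (J := ⟨pStab p K w⟩) hJflat hJK hT0K hT0fix (e := i)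
            (by positivity) hiz (Or.inl hBn) hBd ?_ ⟨y, hy, hya⟩
          · push_cast
            exact hs
          intro L hL hLfix
          by_contra hne
          have hLflat := orb_sub_flat (J := (⟨pStab p K α⟩ : Sub G)) (flat_pStab hT0K hT0fix).1 hL
          have hLB : orb K L = orb K (⟨pStab p K α⟩ : Sub G) := orb_eq hL
          refine atom hn hK (J := ⟨pStab p K w⟩) hJflat hLflat
            (flat_le_of_fix hLflat hJflat hLfix) (orb_sub_le (pStab_le α) hL)
            (fun h => hne (Sub.ext h.symm)) ?_ hAn (by rw [hLB]; exact hBn) hSJ (e := i)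
            (by linarith) hAd
          intro hLK
          have h1 : pStab p K α = K := by
            refine eq_of_le_card (pStab_le α) ?_
            have h2 := orb_sub_card hL
            rw [hLK] at h2
            exact h2.le
          exact hya (pStab_smul_eq (h1.symm ▸ hJK hy))
  have hp' := (Fact.out : p.Prime).two_le
  obtain ⟨K, hK, hKH, hKfix, hlev⟩ := chain (p - 2) (by omega)
  obtain ⟨S, hSK, hSfix⟩ : ∃ S : Sylow p G, (S : Subgroup G) ≤ K ∧
      ∀ j < p, ∀ y ∈ (S : Subgroup G), y • (u ^ j • z) = u ^ j • z := by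
    by_cases hlast : ∀ y ∈ K, y • (u ^ (p - 1) • z) = u ^ (p - 1) • z
    · obtain ⟨S, hS⟩ := hK.syl
      refine ⟨S, hS, fun j hj y hy => ?_⟩
      rcases Nat.lt_or_ge j (p - 1) with h | h
      · exact hKfix j (by omega) y (hS hy)
      · obtain rfl : j = p - 1 := by omega
        exact hlast y (hS hy)
    · push Not at hlast
      obtain ⟨S, hS, hSf, -, -⟩ := hlev _ (hzi _) hlast
      refine ⟨S, hS, fun j hj y hy => ?_⟩
      rcases Nat.lt_or_ge j (p - 1) with h | h
      · exact hKfix j (by omega) y (hS hy)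
      · obtain rfl : j = p - 1 := by omega
        exact hSf y hy
  -- contradiction: `S` fixes a `u`-invariant set
  have hper : ∀ j : ℕ, u ^ j • z = u ^ (j % p) • z := by
    intro j
    conv_lhs => rw [← Nat.mod_add_div j p, pow_add, pow_mul, mul_smul]
    congr 1
    induction j / p with
    | zero => simp
    | succ q ihq => rw [pow_succ, mul_smul, hupz, ihq]
  let N : Subgroup G :=
    { carrier := {g | ∀ β : Sub G, (∃ j : ℕ, u ^ j • z = β) ↔ (∃ j : ℕ, u ^ j • z = g • β)}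
      one_mem' := fun β => by simp
      mul_mem' := fun {a b} ha hb β => by rw [mul_smul, ← ha, ← hb]
      inv_mem' := fun {a} ha β => by rw [ha (a⁻¹ • β), smul_inv_smul] }
  have huN : u ∈ N := by
    intro β
    constructor
    · rintro ⟨j, rfl⟩
      exact ⟨j + 1, by rw [pow_succ', mul_smul]⟩
    · rintro ⟨j, hj⟩
      refine ⟨j + p - 1, smul_left_cancel u ?_⟩
      rw [← mul_smul, ← pow_succ', show j + p - 1 + 1 = j + p by omega, hper, Nat.add_mod_right,
        ← hper, hj]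
  have hSfix' : ∀ y ∈ (S : Subgroup G), ∀ j : ℕ, y • (u ^ j • z) = u ^ j • z := by
    intro y hy j
    rw [hper j]
    exact hSfix _ (Nat.mod_lt _ (by omega)) y hy
  have hSN : (S : Subgroup G) ≤ N := by
    intro y hy β
    constructor
    · rintro ⟨j, rfl⟩
      exact ⟨j, (hSfix' y hy j).symm⟩
    · rintro ⟨j, hj⟩
      refine ⟨j, ?_⟩
      have h1 := hSfix' y⁻¹ (inv_mem hy) j
      rw [hj, inv_smul_smul] at h1
      exact (hj.trans h1.symm)
  have hLN : (S : Subgroup G) ⊔ Subgroup.zpowers u ≤ N :=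
    sup_le hSN (Subgroup.zpowers_le.mpr huN)
  obtain ⟨l, hl, hlu⟩ := pEl_conj_into (T := S) (K := (S : Subgroup G) ⊔ Subgroup.zpowers u)
    le_sup_left (Subgroup.mem_sup_right (Subgroup.mem_zpowers u)) huE
  obtain ⟨j, hj⟩ := ((inv_mem (hLN hl) : l⁻¹ ∈ N) z).mp ⟨0, by simp⟩
  have h1 := hSfix' _ hlu j
  rw [hj, ← mul_smul, mul_inv_cancel_right, mul_smul] at h1
  exact huz (smul_left_cancel _ h1)

end Cfsg.Agent.SylowFix64
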