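import Cfsg.Agent.SylowFix64.Basic

/-!
# Fixed points of Sylow subgroups (helper64): orbits, deficits, counting
-/

set_option autoImplicit false

open scoped Pointwise

namespace Cfsg.Agent.SylowFix64

variable {G : Type*} [Group G] {p : ℕ} {Ω : Type*} [MulAction G Ω]

/-- The orbit of `α` under the subgroup `K`. -/
def orb (K : Subgroup G) (α : Ω) : Set Ω := {β | ∃ k ∈ K, k • α = β}

theorem self_mem_orb (K : Subgroup G) (α : Ω) : α ∈ orb K α := ⟨1, one_mem K, one_smul G α⟩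

theorem smul_mem_orb {K : Subgroup G} {α β : Ω} {k : G} (hk : k ∈ K) (hβ : β ∈ orb K α) :
    k • β ∈ orb K α := by
  obtain ⟨l, hl, rfl⟩ := hβ
  exact ⟨k * l, mul_mem hk hl, mul_smul k l α⟩

theorem orb_eq {K : Subgroup G} {α β : Ω} (hβ : β ∈ orb K α) : orb K β = orb K α := by
  obtain ⟨l, hl, rfl⟩ := hβ
  ext γ
  constructor
  · rintro ⟨k, hk, rfl⟩
    exact ⟨k * l, mul_mem hk hl, mul_smul k l α⟩
  · rintro ⟨k, hk, rfl⟩
    exact ⟨k * l⁻¹, mul_mem hk (inv_mem hl), by rw [mul_smul, inv_smul_smul]⟩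

theorem orb_subset_of_inv {K : Subgroup G} {α : Ω} {D : Set Ω}
    (hinv : ∀ k ∈ K, ∀ β ∈ D, k • β ∈ D) (hα : α ∈ D) : orb K α ⊆ D := by
  rintro β ⟨k, hk, rfl⟩
  exact hinv k hk α hα

/-- The points of `D` fixed by `T`. -/
def fx (T : Sylow p G) (D : Set Ω) : Set Ω := {β ∈ D | ∀ t ∈ (T : Subgroup G), t • β = β}

theorem fx_subset (T : Sylow p G) (D : Set Ω) : fx T D ⊆ D := Set.sep_subset _ _

/-- `(p - 1)|D| - (2p - 1)|fixed points of T on D|`. -/
noncomputable def dfc (T : Sylow p G) (D : Set Ω) : ℤ :=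
  ((p : ℤ) - 1) * (D.ncard : ℤ) - (2 * (p : ℤ) - 1) * ((fx T D).ncard : ℤ)

theorem dfc_union [Finite Ω] (T : Sylow p G) {A B : Set Ω} (h : Disjoint A B) :
    dfc T (A ∪ B) = dfc T A + dfc T B := by
  have h1 : fx T (A ∪ B) = fx T A ∪ fx T B := by
    ext x
    simp only [fx, Set.mem_ofPred_eq, Set.mem_union]
    tauto
  have h2 : Disjoint (fx T A) (fx T B) := h.mono (fx_subset T A) (fx_subset T B)
  simp only [dfc, h1]
  rw [Set.ncard_union_eq h, Set.ncard_union_eq h2]
  push_cast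
  ring

theorem dfc_empty (T : Sylow p G) : dfc T (∅ : Set Ω) = 0 := by
  simp [dfc, fx]

theorem dfc_nonneg_of_fx_eq_zero [Fact p.Prime] (T : Sylow p G) {D : Set Ω}
    (h : (fx T D).ncard = 0) : 0 ≤ dfc T D := by
  have hp : (2 : ℤ) ≤ (p : ℤ) := by exact_mod_cast (Fact.out : p.Prime).two_le
  simp only [dfc, h]
  push_cast
  nlinarith [Int.natCast_nonneg D.ncard]

theorem fx_ncard_eq [Fact p.Prime] [Finite G] {K : Subgroup G} {T T' : Sylow p G}
    (hT : (T : Subgroup G) ≤ K) (hT' : (T' : Subgroup G) ≤ K) {D : Set Ω}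
    (hinv : ∀ k ∈ K, ∀ β ∈ D, k • β ∈ D) : (fx T D).ncard = (fx T' D).ncard := by
  obtain ⟨k, hk, rfl⟩ := sylow_conj_in hT hT'
  have h : (k • ·) '' fx T D = fx (k • T) D := by
    ext β
    constructor
    · rintro ⟨γ, ⟨hγ, hfix⟩, rfl⟩
      refine ⟨hinv k hk γ hγ, fun t ht => ?_⟩
      have h1 := hfix _ (mem_smul_sylow.mp ht)
      rw [mul_smul, mul_smul, inv_smul_eq_iff] at h1
      exact h1
    · rintro ⟨hβ, hfix⟩
      refine ⟨k⁻¹ • β, ⟨hinv _ (inv_mem hk) β hβ, fun t ht => ?_⟩, smul_inv_smul k β⟩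
      have h1 := hfix (k * t * k⁻¹) (mem_smul_sylow.mpr (by simpa [mul_assoc] using ht))
      rw [mul_smul, mul_smul] at h1
      rw [eq_inv_smul_iff, h1]
  rw [← h, Set.ncard_image_of_injective _ (MulAction.injective k)]

theorem fx_exists_mul [Fact p.Prime] [Finite Ω] {T : Sylow p G} {D : Set Ω}
    (hinv : ∀ t ∈ (T : Subgroup G), ∀ β ∈ D, t • β ∈ D) :
    ∃ k : ℕ, D.ncard = (fx T D).ncard + p * k := by
  letI : SMul ↥(T : Subgroup G) ↥D := ⟨fun t β => ⟨(t : G) • (β : Ω), hinv t t.2 β β.2⟩⟩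
  letI : MulAction ↥(T : Subgroup G) ↥D :=
    { one_smul := fun β => Subtype.ext (one_smul G (β : Ω))
      mul_smul := fun s t β => Subtype.ext (mul_smul (s : G) (t : G) (β : Ω)) }
  have h := T.isPGroup'.card_modEq_card_fixedPoints ↥D
  have e : Nat.card (MulAction.fixedPoints ↥(T : Subgroup G) ↥D) = (fx T D).ncard := by
    rw [← Nat.card_coe_set_eq]
    exact Nat.card_congr
      { toFun := fun β => ⟨β.1.1, β.1.2, fun t ht => congrArg Subtype.val (β.2 ⟨t, ht⟩)⟩
        invFun := fun β => ⟨⟨β.1, β.2.1⟩, fun t => Subtype.ext (β.2.2 t.1 t.2)⟩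
        left_inv := fun β => rfl
        right_inv := fun β => rfl }
  rw [e, Nat.card_coe_set_eq] at h
  have hle := Set.ncard_le_ncard (fx_subset T D) (Set.toFinite D)
  obtain ⟨k, hk⟩ := (Nat.modEq_iff_dvd' hle).mp h.symm
  exact ⟨k, by omega⟩

/-- Moved orbits contain a moved point of every Sylow subgroup. -/
theorem fx_ne_self [Fact p.Prime] [Finite G] {K : Subgroup G} (hK : Flat p K) {T : Sylow p G}
    (hT : (T : Subgroup G) ≤ K) {D : Set Ω} (hinv : ∀ k ∈ K, ∀ β ∈ D, k • β ∈ D)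
    {α : Ω} (hα : α ∈ D) (hmov : ∃ k ∈ K, k • α ≠ α) : fx T D ≠ D := by
  intro h
  obtain ⟨k, hk, hka⟩ := hmov
  refine hka (flat_trivial hK hT hinv (fun t ht β hβ => ?_) k hk α hα)
  rw [← h] at hβ
  exact hβ.2 t ht

theorem fx_add_le [Fact p.Prime] [Finite G] [Finite Ω] {K : Subgroup G} (hK : Flat p K)
    {T : Sylow p G} (hT : (T : Subgroup G) ≤ K) {D : Set Ω}
    (hinv : ∀ k ∈ K, ∀ β ∈ D, k • β ∈ D)
    {α : Ω} (hα : α ∈ D) (hmov : ∃ k ∈ K, k • α ≠ α) :
    ∃ k : ℕ, 1 ≤ k ∧ D.ncard = (fx T D).ncard + p * k := by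
  obtain ⟨k, hk⟩ := fx_exists_mul (fun t ht β hβ => hinv t (hT ht) β hβ) (T := T) (D := D)
  refine ⟨k, ?_, hk⟩
  rcases Nat.eq_zero_or_pos k with rfl | h
  · exact absurd (Set.eq_of_subset_of_ncard_le (fx_subset T D) (by omega) (Set.toFinite D))
      (fx_ne_self hK hT hinv hα hmov)
  · exact h

section

variable [Fact p.Prime] [Finite G]

/-- A set without fixed points satisfies the bound as soon as each of its orbits does. -/
theorem union_bound [Finite Ω] {K : Subgroup G} {T : Sylow p G}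
    {S : Set Ω} (hinv : ∀ k ∈ K, ∀ β ∈ S, k • β ∈ S)
    (hb : ∀ α ∈ S, 0 ≤ dfc T (orb K α)) : 0 ≤ dfc T S := by
  suffices h : ∀ (n : ℕ) (S : Set Ω), S.ncard ≤ n → (∀ k ∈ K, ∀ β ∈ S, k • β ∈ S) →
      (∀ α ∈ S, 0 ≤ dfc T (orb K α)) → 0 ≤ dfc T S from h _ S le_rfl hinv hb
  intro n
  induction n with
  | zero =>
    intro S hS _ _
    rw [(Set.ncard_eq_zero (Set.toFinite S)).mp (Nat.le_zero.mp hS), dfc_empty]
  | succ n ih =>
    intro S hS hinv hb
    rcases S.eq_empty_or_nonempty with rfl | ⟨α, hα⟩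
    · rw [dfc_empty]
    have hsub := orb_subset_of_inv hinv hα
    rw [← Set.union_sdiff_cancel hsub, dfc_union T Set.disjoint_sdiff_right]
    refine add_nonneg (hb α hα) (ih _ ?_ ?_ fun β hβ => hb β hβ.1)
    · have h1 := Set.ncard_sdiff_add_ncard_of_subset hsub (Set.toFinite S)
      have h2 : 0 < (orb K α).ncard :=
        (Set.ncard_pos (Set.toFinite _)).mpr ⟨α, self_mem_orb K α⟩
      omega
    · intro k hk β hβ
      refine ⟨hinv k hk β hβ.1, fun hc => hβ.2 ?_⟩
      have := smul_mem_orb (inv_mem hk) hc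
      rwa [inv_smul_smul] at this

theorem sub_fix_iff {J : Sub G} (hJ : Flat p J.grp) (T : Sylow p G) :
    (∀ t ∈ (T : Subgroup G), t • J = J) ↔ (T : Subgroup G) ≤ J.grp := by
  constructor
  · exact fun h t ht => mem_of_smul_eq hJ (pEl_of_mem_sylow ht) (h t ht)
  · exact fun h t ht => Sub.smul_self_of_mem (h ht)

theorem orb_sub_le {K : Subgroup G} {J J' : Sub G} (hJK : J.grp ≤ K) (h : J' ∈ orb K J) :
    J'.grp ≤ K := by
  obtain ⟨k, hk, rfl⟩ := h
  intro x hx
  have := mul_mem (mul_mem hk (hJK (Sub.mem_smul.mp hx))) (inv_mem hk)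
  simpa [mul_assoc] using this

theorem orb_sub_flat {K : Subgroup G} {J J' : Sub G} (hJ : Flat p J.grp) (h : J' ∈ orb K J) :
    Flat p J'.grp := by
  obtain ⟨k, hk, rfl⟩ := h
  exact flat_smul hJ k

theorem orb_sub_card {K : Subgroup G} {J J' : Sub G} (h : J' ∈ orb K J) :
    Nat.card J'.grp = Nat.card J.grp := by
  obtain ⟨k, hk, rfl⟩ := h
  exact Sub.card_smul k J

/-- The number of Sylow subgroups of `G` inside a subgroup. -/
noncomputable def nsyl (p : ℕ) (K : Subgroup G) : ℕ := Nat.card {T : Sylow p G // (T : Subgroup G) ≤ K}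

theorem nsyl_pos {K : Subgroup G} (hK : Flat p K) : 0 < nsyl p K := by
  obtain ⟨T, hT⟩ := hK.syl
  haveI : Nonempty {T : Sylow p G // (T : Subgroup G) ≤ K} := ⟨⟨T, hT⟩⟩
  exact Nat.card_pos

theorem nsyl_smul {g : G} (J : Sub G) : nsyl p (g • J).grp = nsyl p J.grp := by
  refine (Nat.card_congr ((MulAction.toPerm g : Equiv.Perm (Sylow p G)).subtypeEquiv fun T => ?_)).symm
  constructor
  · intro h x hx
    exact Sub.mem_smul.mpr (h (mem_smul_sylow.mp hx))
  · intro h x hx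
    have h1 : g * x * g⁻¹ ∈ ((g • T : Sylow p G) : Subgroup G) :=
      mem_smul_sylow.mpr (by simpa [mul_assoc] using hx)
    have h2 := Sub.mem_smul.mp (h h1)
    simpa [mul_assoc] using h2

/-- Double counting of the incidences between Sylow subgroups and conjugates of a flat. -/
theorem double_count {K : Subgroup G} {J : Sub G} (hJ : Flat p J.grp) (hJK : J.grp ≤ K)
    {T : Sylow p G} (hT : (T : Subgroup G) ≤ K) :
    (orb K J).ncard * nsyl p J.grp = nsyl p K * (fx T (orb K J)).ncard := by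
  classical
  haveI : Fintype (Sylow p G) := Fintype.ofFinite _
  haveI : Fintype (Sub G) := Fintype.ofFinite _
  have h := Finset.sum_card_bipartiteAbove_eq_sum_card_bipartiteBelow
    (r := fun (T' : Sylow p G) (J' : Sub G) => (T' : Subgroup G) ≤ J'.grp)
    (s := Finset.univ.filter fun T' : Sylow p G => (T' : Subgroup G) ≤ K)
    (t := (orb K J).toFinset)
  have h1 : ∀ T' ∈ (Finset.univ.filter fun T' : Sylow p G => (T' : Subgroup G) ≤ K),
      (Finset.bipartiteAbove (fun (T' : Sylow p G) (J' : Sub G) => (T' : Subgroup G) ≤ J'.grp)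
        (orb K J).toFinset T').card = (fx T (orb K J)).ncard := by
    intro T' hT'
    rw [Finset.mem_filter] at hT'
    rw [fx_ncard_eq hT hT'.2 (fun k hk β hβ => smul_mem_orb hk hβ), ← Set.ncard_coe_finset]
    refine congrArg Set.ncard (Set.ext fun J' => ?_)
    simp only [Finset.coe_bipartiteAbove, Set.mem_ofPred_eq, Set.mem_toFinset, fx]
    exact and_congr_right fun hJ' => (sub_fix_iff (orb_sub_flat hJ hJ') T').symm
  have h2 : ∀ J' ∈ (orb K J).toFinset,
      (Finset.bipartiteBelow (fun (T' : Sylow p G) (J' : Sub G) => (T' : Subgroup G) ≤ J'.grp)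
        (Finset.univ.filter fun T' : Sylow p G => (T' : Subgroup G) ≤ K) J').card
        = nsyl p J.grp := by
    intro J' hJ'
    rw [Set.mem_toFinset] at hJ'
    have hle := orb_sub_le hJK hJ'
    have e : nsyl p J'.grp = nsyl p J.grp := by
      obtain ⟨k, hk, rfl⟩ := hJ'
      exact nsyl_smul J
    rw [← e, nsyl, Nat.card_eq_fintype_card, Fintype.card_subtype]
    refine congrArg Finset.card (Finset.ext fun T' => ?_)
    simp only [Finset.bipartiteBelow, Finset.mem_filter, Finset.mem_univ, true_and]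
    exact ⟨fun hh => hh.2, fun hh => ⟨hh.trans hle, hh⟩⟩
  rw [Finset.sum_congr rfl h1, Finset.sum_congr rfl h2] at h
  simp only [Finset.sum_const, smul_eq_mul] at h
  rw [Set.ncard_eq_toFinset_card' (orb K J), ← h]
  congr 1
  rw [nsyl, Nat.card_eq_fintype_card, Fintype.card_subtype]

/-- Passing from a transitive set to the conjugacy class of the flat of a point. -/
theorem class_reduce [Finite Ω] {K : Subgroup G} {α : Ω} {T0 : Sylow p G}
    (hT0 : (T0 : Subgroup G) ≤ K) (hfix : ∀ t ∈ (T0 : Subgroup G), t • α = α) :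
    ∃ x : ℕ, 1 ≤ x ∧ (orb K α).ncard = x * (orb K (⟨pStab p K α⟩ : Sub G)).ncard ∧
      ∀ T : Sylow p G, (T : Subgroup G) ≤ K →
        (fx T (orb K α)).ncard = x * (fx T (orb K (⟨pStab p K α⟩ : Sub G))).ncard := by
  classical
  haveI : Fintype Ω := Fintype.ofFinite _
  haveI : Fintype (Sub G) := Fintype.ofFinite _
  let φ : Ω → Sub G := fun β => ⟨pStab p K β⟩
  have hφ : ∀ k ∈ K, ∀ β : Ω, φ (k • β) = k • φ β := by
    intro k hk β
    apply Sub.ext
    apply le_antisymm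
    · refine (Subgroup.closure_le _).mpr ?_
      rintro x ⟨hx, hp, hxf⟩
      rw [SetLike.mem_coe, Sub.mem_smul]
      refine mem_pStab (mul_mem (mul_mem (inv_mem hk) hx) hk) ?_ ?_
      · simpa using pEl_conj (g := k⁻¹) hp
      · rw [mul_smul, mul_smul, inv_smul_eq_iff]
        exact hxf
    · intro x hx
      rw [Sub.mem_smul] at hx
      have hle : pStab p K β ≤ (pStab p K (k • β)).comap (MulAut.conj k).toMonoidHom := by
        refine (Subgroup.closure_le _).mpr ?_
        rintro y ⟨hy, hp, hyf⟩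
        change k * y * k⁻¹ ∈ pStab p K (k • β)
        refine mem_pStab (mul_mem (mul_mem hk hy) (inv_mem hk)) (pEl_conj hp) ?_
        rw [mul_smul, mul_smul, inv_smul_smul, hyf]
      have := hle hx
      simpa [mul_assoc] using this
  set D := orb K α with hD
  set C := orb K (⟨pStab p K α⟩ : Sub G) with hC
  have hφC : ∀ β ∈ D, φ β ∈ C := by
    rintro β ⟨k, hk, rfl⟩
    exact ⟨k, hk, (hφ k hk α).symm⟩
  set x : ℕ := (D.toFinset.filter fun β => φ β = φ α).card with hx
  have hfib : ∀ c ∈ C, (D.toFinset.filter fun β => φ β = c).card = x := by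
    rintro c ⟨k, hk, rfl⟩
    symm
    refine Finset.card_bij' (fun β _ => k • β) (fun β _ => k⁻¹ • β) ?_ ?_ (fun β _ => inv_smul_smul k β)
      (fun β _ => smul_inv_smul k β)
    · intro β hβ
      rw [Finset.mem_filter, Set.mem_toFinset] at hβ
      rw [Finset.mem_filter, Set.mem_toFinset]
      exact ⟨smul_mem_orb hk hβ.1, by rw [hφ k hk β, hβ.2]⟩
    · intro β hβ
      rw [Finset.mem_filter, Set.mem_toFinset] at hβ
      rw [Finset.mem_filter, Set.mem_toFinset]
      refine ⟨smul_mem_orb (inv_mem hk) hβ.1, ?_⟩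
      rw [hφ k⁻¹ (inv_mem hk) β, hβ.2]
      exact inv_smul_smul k _
  have hflat : ∀ β ∈ D, Flat p (pStab p K β) := by
    intro β hβ
    obtain ⟨k, hk, rfl⟩ := hβ
    have h : Flat p (φ (k • α)).grp := by
      rw [hφ k hk α]
      exact flat_smul (J := φ α) (flat_pStab hT0 hfix).1 k
    exact h
  have hfx : ∀ T : Sylow p G, (T : Subgroup G) ≤ K → ∀ β ∈ D,
      ((∀ t ∈ (T : Subgroup G), t • β = β) ↔ ∀ t ∈ (T : Subgroup G), t • φ β = φ β) := by
    intro T hT β hβ
    rw [sub_fix_iff (J := φ β) (hflat β hβ) T]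
    exact ⟨fun h => (flat_pStab hT h).2, fun h t ht => pStab_smul_eq (h ht)⟩
  refine ⟨x, ?_, ?_, fun T hT => ?_⟩
  · refine Finset.card_pos.mpr ⟨α, ?_⟩
    simp [hD, self_mem_orb]
  · rw [Set.ncard_eq_toFinset_card' D, Set.ncard_eq_toFinset_card' C,
      Finset.card_eq_sum_card_fiberwise (f := φ) (t := C.toFinset)
        (fun β hβ => Set.mem_toFinset.mpr (hφC β (Set.mem_toFinset.mp hβ))),
      Finset.sum_congr rfl fun c hc => hfib c (Set.mem_toFinset.mp hc)]
    rw [Finset.sum_const, smul_eq_mul, mul_comm]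
  · rw [Set.ncard_eq_toFinset_card' (fx T D), Set.ncard_eq_toFinset_card' (fx T C),
      Finset.card_eq_sum_card_fiberwise (f := φ) (t := (fx T C).toFinset)]
    · rw [Finset.sum_congr rfl (g := fun _ => x) ?_, Finset.sum_const, smul_eq_mul, mul_comm]
      intro c hc
      rw [Set.mem_toFinset] at hc
      rw [← hfib c hc.1]
      refine congrArg Finset.card (Finset.ext fun β => ?_)
      simp only [Finset.mem_filter, Set.mem_toFinset]
      refine ⟨fun h => ⟨h.1.1, h.2⟩, fun h => ⟨⟨h.1, ?_⟩, h.2⟩⟩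
      rw [hfx T hT β h.1, h.2]
      exact hc.2
    · intro β hβ
      rw [Finset.mem_coe, Set.mem_toFinset] at hβ ⊢
      exact ⟨hφC β hβ.1, (hfx T hT β hβ.1).mp hβ.2⟩

end

end Cfsg.Agent.SylowFix64
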